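import Mathlib

/-! Effectivity of flat descent data for modules (S19547). -/

open TensorProduct

universe u

set_option linter.unusedSectionVars false

namespace Groth.Agent.Helper7.Desc

section

variable (A A' : Type u) [CommRing A] [CommRing A'] [Algebra A A'] [Module.Flat A A']
  (M' : Type u) [AddCommGroup M'] [Module A M'] [Module A' M'] [IsScalarTower A A' M']
  (φ : M' ⊗[A] A' →ₗ[A] A' ⊗[A] M')

/-- the coaction -/
noncomputable def theta : M' →ₗ[A] A' ⊗[A] M' := φ ∘ₗ (TensorProduct.mk A M' A').flip 1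

/-- the trivial coaction -/
noncomputable def iota : M' →ₗ[A] A' ⊗[A] M' := TensorProduct.mk A A' M' 1

/-- the action map -/
noncomputable def mu : A' ⊗[A] M' →ₗ[A] M' := TensorProduct.lift (Algebra.lsmul A A M').toLinearMap

omit [Module.Flat A A'] in
@[simp] theorem theta_apply (u : M') : theta A A' M' φ u = φ (u ⊗ₜ 1) := rfl

omit [Module.Flat A A'] in
@[simp] theorem iota_apply (u : M') : iota A A' M' u = 1 ⊗ₜ u := rfl

omit [Module.Flat A A'] in
@[simp] theorem mu_tmul (x : A') (u : M') : mu A A' M' (x ⊗ₜ u) = x • u := by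
  simp [mu]

variable (hφ : Function.Bijective φ)
    (h1 : ∀ (x : A') (u : M') (z : A'),
      φ ((x • u) ⊗ₜ[A] z) = LinearMap.rTensor M' (LinearMap.mulLeft A x) (φ (u ⊗ₜ[A] z)))
    (h2 : ∀ (y : A') (u : M') (z : A'),
      φ (u ⊗ₜ[A] (y * z)) = LinearMap.lTensor A' (Algebra.lsmul A A M' y) (φ (u ⊗ₜ[A] z)))
    (hcoc : ∀ (u : M') (a b : A'),
      LinearMap.lTensor A' φ (TensorProduct.assoc A A' M' A' (LinearMap.rTensor A' φ ((u ⊗ₜ[A] a) ⊗ₜ[A] b))) =
        LinearMap.lTensor A' (TensorProduct.mk A A' M' a) (φ (u ⊗ₜ[A] b)))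

omit [Module.Flat A A'] in
theorem aux_assoc (t : A' ⊗[A] M') :
    LinearMap.lTensor A' φ (TensorProduct.assoc A A' M' A' (t ⊗ₜ[A] (1 : A'))) =
      LinearMap.lTensor A' (theta A A' M' φ) t := by
  induction t using TensorProduct.induction_on with
  | zero => simp
  | add a b ha hb => rw [add_tmul, map_add, map_add, map_add, ha, hb]
  | tmul a u => simp

include hcoc in
omit [Module.Flat A A'] in
theorem coassoc (v : M') :
    LinearMap.lTensor A' (theta A A' M' φ) (theta A A' M' φ v) =
      LinearMap.lTensor A' (iota A A' M') (theta A A' M' φ v) := by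
  have h := hcoc v 1 1
  rw [LinearMap.rTensor_tmul, aux_assoc] at h
  exact h

include h1 in
omit [Module.Flat A A'] in
theorem theta_smul (x : A') (u : M') :
    theta A A' M' φ (x • u) = LinearMap.rTensor M' (LinearMap.mulLeft A x) (theta A A' M' φ u) :=
  h1 x u 1

include h2 in
omit [Module.Flat A A'] in
theorem phi_eq (u : M') (y : A') :
    φ (u ⊗ₜ[A] y) = LinearMap.lTensor A' (Algebra.lsmul A A M' y) (theta A A' M' φ u) := by
  have := h2 y u 1
  rwa [mul_one] at this

omit [Module.Flat A A'] in
theorem mu_rTensor (x : A') (t : A' ⊗[A] M') :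
    mu A A' M' (LinearMap.rTensor M' (LinearMap.mulLeft A x) t) = x • mu A A' M' t := by
  induction t using TensorProduct.induction_on with
  | zero => simp
  | add a b ha hb => rw [map_add, map_add, map_add, ha, hb, smul_add]
  | tmul a u => simp [mul_smul]

/-- the endomorphism `μ ∘ θ` -/
noncomputable def e : M' →ₗ[A] M' := mu A A' M' ∘ₗ theta A A' M' φ

include h1 in
omit [Module.Flat A A'] in
theorem e_smul (x : A') (u : M') : e A A' M' φ (x • u) = x • e A A' M' φ u := by
  simp only [e, LinearMap.comp_apply]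
  rw [theta_smul A A' M' φ h1, mu_rTensor]

include hcoc in
omit [Module.Flat A A'] in
theorem lTensor_e_theta (v : M') :
    LinearMap.lTensor A' (e A A' M' φ) (theta A A' M' φ v) = theta A A' M' φ v := by
  have h := congrArg (LinearMap.lTensor A' (mu A A' M')) (coassoc A A' M' φ hcoc v)
  rw [← LinearMap.lTensor_comp_apply, ← LinearMap.lTensor_comp_apply] at h
  have h3 : mu A A' M' ∘ₗ iota A A' M' = LinearMap.id := by
    ext u; simp
  rw [h3, LinearMap.lTensor_id, LinearMap.id_apply] at h
  exact h

include hφ h1 h2 hcoc in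
omit [Module.Flat A A'] in
theorem counit (v : M') : mu A A' M' (theta A A' M' φ v) = v := by
  have hcomm : ∀ y : A', (e A A' M' φ) ∘ₗ (Algebra.lsmul A A M' y) =
      (Algebra.lsmul A A M' y) ∘ₗ (e A A' M' φ) := by
    intro y
    ext u
    simp only [LinearMap.comp_apply, Algebra.lsmul_coe]
    exact e_smul A A' M' φ h1 y u
  have key : (LinearMap.lTensor A' (e A A' M' φ)) ∘ₗ φ = φ := by
    apply TensorProduct.ext'
    intro u y
    rw [LinearMap.comp_apply, phi_eq A A' M' φ h2, ← LinearMap.comp_apply,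
      ← LinearMap.lTensor_comp, hcomm, LinearMap.lTensor_comp, LinearMap.comp_apply,
      lTensor_e_theta A A' M' φ hcoc]
  obtain ⟨s, hs⟩ := hφ.2 ((1 : A') ⊗ₜ[A] v)
  have h3 := congrArg (fun F => F s) key
  simp only [LinearMap.comp_apply] at h3
  rw [hs, LinearMap.lTensor_tmul] at h3
  have h4 := congrArg (mu A A' M') h3
  rw [mu_tmul, mu_tmul, one_smul, one_smul] at h4
  exact h4

include hφ h1 h2 hcoc in
theorem bijective (M : Submodule A M')
    (hM : ∀ u : M', u ∈ M ↔ φ (u ⊗ₜ[A] (1 : A')) = (1 : A') ⊗ₜ[A] u) :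
    Function.Bijective
      ((TensorProduct.lift (Algebra.lsmul A A M').toLinearMap) ∘ₗ (LinearMap.lTensor A' M.subtype)) := by
  change Function.Bijective (mu A A' M' ∘ₗ (LinearMap.lTensor A' M.subtype))
  -- `θ ∘ lam = id ⊗ incl`
  have hcompθ : theta A A' M' φ ∘ₗ (mu A A' M' ∘ₗ (LinearMap.lTensor A' M.subtype)) =
      LinearMap.lTensor A' M.subtype := by
    apply TensorProduct.ext'
    intro x u
    simp only [LinearMap.comp_apply, LinearMap.lTensor_tmul, Submodule.subtype_apply, mu_tmul]
    rw [theta_smul A A' M' φ h1, theta_apply, (hM u).mp u.2]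
    simp
  have hinj : Function.Injective (LinearMap.lTensor A' M.subtype) :=
    Module.Flat.lTensor_preserves_injective_linearMap _ (Submodule.injective_subtype M)
  constructor
  · have : Function.Injective (theta A A' M' φ ∘ₗ
        (mu A A' M' ∘ₗ (LinearMap.lTensor A' M.subtype))) := by
      rw [hcompθ]; exact hinj
    rw [LinearMap.coe_comp] at this
    exact this.of_comp
  · intro v
    -- exactness
    have hex : Function.Exact M.subtype (theta A A' M' φ - iota A A' M') := by
      intro u
      rw [LinearMap.sub_apply, sub_eq_zero, theta_apply, iota_apply, ← hM u]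
      simp
    have hex' := Module.Flat.lTensor_exact A' hex
    have hker : LinearMap.lTensor A' (theta A A' M' φ - iota A A' M') (theta A A' M' φ v) = 0 := by
      rw [LinearMap.lTensor_sub, LinearMap.sub_apply, coassoc A A' M' φ hcoc, sub_self]
    obtain ⟨w, hw⟩ := (hex' _).mp hker
    refine ⟨w, ?_⟩
    have h5 := congrArg (fun F => F w) hcompθ
    simp only [LinearMap.comp_apply] at h5
    have h5' := h5.trans hw
    have h6 := congrArg (mu A A' M') h5'
    rw [counit A A' M' φ hφ h1 h2 hcoc, counit A A' M' φ hφ h1 h2 hcoc] at h6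
    exact h6

end

end Groth.Agent.Helper7.Desc
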